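import Cfsg.Agent.Lib.Recog.SporBound.Sound
import Cfsg.Agent.Lib.Recog.SporBound.TriF7.Tree0
import Cfsg.Agent.Lib.Recog.SporBound.TriF7.Tree1
import Cfsg.Agent.Lib.Recog.SporBound.TriF7.Tree2
import Cfsg.Agent.Lib.Recog.SporBound.TriF7.Tree3
import Cfsg.Agent.Lib.Recog.SporBound.TriF7.Tree4

set_option autoImplicit false
set_option maxRecDepth 20000

/-! Generated closure certificate: Fi23 tower, cosets of a parabolic in the next <bcdefghi> (owner: helper21). -/

namespace CfsgLib.Recog.SporBound.TriF7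
open CfsgLib.Recog.SporBound

noncomputable def factTree : Q (ℕ) := (.node (.node ft15 ft31 ft47 ft62) (.node ft78 ft94 ft110 ft125) (.node ft141 ft157 ft173 ft188) (.node ft204 ft220 ft235 ft250))
noncomputable def nodeTree : Q (ℕ) := (.node ct7 ct14 ct21 ct28)
noncomputable def stepTree : Q (List ℕ) := (.node (.node (.node st6 st13 st19 st25) (.node st32 st38 st44 st50) (.node st57 st63 st69 st75) (.node st82 st88 st94 st100)) (.node (.node st107 st113 st119 st125) (.node st132 st138 st144 st150) (.node st157 st163 st169 st175) (.node st182 st188 st194 st200)) (.node (.node st207 st213 st219 st225) (.node st232 st238 st244 st250) (.node st257 st263 st269 st275) (.node st282 st288 st294 st300)) (.node (.node st307 st313 st319 st325) (.node st332 st338 st344 st350) (.node st357 st363 st369 st375) (.node st382 st388 st394 st400)))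
noncomputable def finalTree : Q (List ℕ) := (.node (.node (.node et7 et14 et21 et28) (.node et36 et43 et50 et57) (.node et65 et72 et79 et86) (.node et93 et100 et107 et114)) (.node (.node et122 et129 et136 et143) (.node et151 et158 et165 et172) (.node et180 et187 et194 et201) (.node et208 et215 et222 et229)) (.node (.node et237 et244 et251 et258) (.node et266 et273 et280 et287) (.node et295 et302 et309 et316) (.node et323 et330 et337 et344)) (.node (.node et352 et359 et366 et373) (.node et381 et388 et395 et402) (.node et409 et416 et423 et430) (.node et437 et444 et451 et458)))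

/-- The certificate. -/
noncomputable def cert : Cert where
  n := 3159
  nd := 8495
  nf := 30033
  kl := [1, 2, 3, 4, 5, 6, 7, 8]
  facts := factTree
  cn := nodeTree
  steps := stepTree
  finals := finalTree
  rels := [[1, 1], [2, 2], [3, 3], [4, 4], [5, 5], [6, 6], [7, 7], [8, 8], [1, 2, 1, 2, 1, 2], [1, 3, 1, 3], [1, 4, 1, 4], [1, 5, 1, 5], [1, 6, 1, 6], [1, 7, 1, 7], [1, 8, 1, 8], [2, 3, 2, 3, 2, 3], [2, 4, 2, 4], [2, 5, 2, 5], [2, 6, 2, 6], [2, 7, 2, 7], [2, 8, 2, 8], [3, 4, 3, 4, 3, 4], [3, 5, 3, 5], [3, 6, 3, 6], [3, 7, 3, 7, 3, 7], [3, 8, 3, 8], [4, 5, 4, 5, 4, 5], [4, 6, 4, 6], [4, 7, 4, 7], [4, 8, 4, 8], [5, 6, 5, 6, 5, 6], [5, 7, 5, 7], [5, 8, 5, 8], [6, 7, 6, 7], [6, 8, 6, 8], [7, 8, 7, 8, 7, 8], [3, 2, 1, 3, 4, 5, 3, 7, 8, 3, 2, 1, 3, 4, 5, 3, 7, 8, 3, 2, 1, 3, 4, 5, 3, 7, 8, 3, 2, 1, 3, 4, 5, 3, 7, 8, 3, 2, 1, 3, 4, 5, 3, 7, 8, 3, 2, 1, 3, 4, 5, 3, 7, 8, 3, 2, 1, 3, 4, 5, 3, 7, 8, 3, 2, 1, 3, 4, 5, 3, 7, 8, 3, 2, 1, 3, 4, 5, 3, 7, 8, 3,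 2, 1, 3, 4, 5, 3, 7, 8]]
  subs := [[1], [2], [3], [4], [5], [6], [7]]

/-- Chains of the traced words. -/
noncomputable def closers : List ℕ := []

end CfsgLib.Recog.SporBound.TriF7
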